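import Groth.Agent.ProjUPLib.Coord
import Groth.Agent.ShStabLib.Simple
import Groth.Agent.CompleteCurve.ProjSpace
import Groth.Prelude.Def_ProjUP

/-!
Closed points of projective space over an algebraically closed field in coordinates.
-/

set_option autoImplicit false
set_option backward.isDefEq.respectTransparency false
set_option linter.style.haveILetI false
universe u
open CategoryTheory CategoryTheory.Limits AlgebraicGeometry TopologicalSpace HomogeneousLocalization

noncomputable section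

namespace Groth.Agent.ClImmLib

variable {k : Type u} [Field k] {n : ℕ}

local notation "𝒮" => CohB1.polyGrading n k

/-- A coordinate as a form of degree one. -/
abbrev X1 (i : Fin (n + 1)) : 𝒮 1 := ⟨MvPolynomial.X i, MvPolynomial.isHomogeneous_X k i⟩

/-- A standard chart. -/
abbrev D (j : Fin (n + 1)) : (CohB1.ProjSpace n k).Opens := Proj.basicOpen 𝒮 (X1 (k := k) j).1

theorem exists_mem_D (y : CohB1.ProjSpace n k) : ∃ j, y ∈ D j := by
  have h := ProjCoh.cover_of_adjoin 𝒮 (fun i => X1 (k := k) (n := n) i) MvPolynomial.adjoin_range_X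
  exact Opens.mem_iSup.1 (h.ge (Opens.mem_top y))

/-- Germ of a coordinate ratio. -/
def ρ {j : Fin (n + 1)} (i : Fin (n + 1)) (y : CohB1.ProjSpace n k) (hy : y ∈ D j) :
    (CohB1.ProjSpace n k).presheaf.stalk y :=
  (CohB1.ProjSpace n k).presheaf.germ (D j) y hy (ProjCoh.ratioSec 𝒮 (X1 j) (X1 i))

/-- Germ of a constant. -/
def cst (y : CohB1.ProjSpace n k) : k →+* (CohB1.ProjSpace n k).presheaf.stalk y :=
  ((CohB1.ProjSpace n k).presheaf.germ ⊤ y trivial).hom.comp
    (ProjUP.toGlobal (CohB1.ProjSpace.toSpec n k))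

theorem cst_mem_maximalIdeal {y : CohB1.ProjSpace n k} {b : k}
    (h : cst y b ∈ IsLocalRing.maximalIdeal _) : b = 0 := by
  by_contra hb
  exact h ((isUnit_iff_ne_zero.2 hb).map (cst y))

theorem ρ_self {j : Fin (n + 1)} (y : CohB1.ProjSpace n k) (hy : y ∈ D j) : ρ j y hy = 1 := by
  have : ProjCoh.ratioSec 𝒮 (X1 (k := k) j) (X1 j) = 1 := by
    refine Subtype.ext (funext fun x => val_injective _ ?_)
    show val (HomogeneousLocalization.mk ⟨1, X1 j, X1 j, x.2⟩) = val (1 : HomogeneousLocalization _ _)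
    rw [val_mk, val_one, Localization.mk_eq_monoidOf_mk']
    exact Submonoid.LocalizationMap.mk'_self' _ ⟨(X1 (k := k) j).1, x.2⟩
  rw [ρ, this, map_one]

/-- The chart ring as sections. -/
def awayHom (j : Fin (n + 1)) :
    HomogeneousLocalization.Away 𝒮 (X1 (k := k) j).1 →+* Γ(CohB1.ProjSpace n k, D (k := k) j) :=
  (Proj.awayToSection 𝒮 (X1 (k := k) (n := n) j).1).hom

theorem awayHom_surjective (j : Fin (n + 1)) : Function.Surjective (awayHom (k := k) (n := n) j) := by
  haveI : IsIso (Proj.awayToSection 𝒮 (X1 (k := k) j).1) :=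
    (Proj.basicOpenIsoAway 𝒮 (X1 (k := k) j).1 (X1 (k := k) j).2 one_pos).isIso_hom
  exact (ConcreteCategory.bijective_of_isIso (Proj.awayToSection 𝒮 (X1 (k := k) j).1)).2

/-- The polynomial ring as functions on a chart. -/
def toChart (j : Fin (n + 1)) :
    MvPolynomial (Fin (n + 1)) k →+* Γ(CohB1.ProjSpace n k, D (k := k) j) :=
  (awayHom (k := k) j).comp (ProjUPLib.dehom (X1 (k := k) j))

theorem toChart_surjective (j : Fin (n + 1)) : Function.Surjective (toChart (k := k) (n := n) j) := fun z => by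
  obtain ⟨w, rfl⟩ := awayHom_surjective j z
  obtain ⟨x, rfl⟩ := ProjUPLib.dehom_surjective (X1 (k := k) j) w
  exact ⟨x, rfl⟩

theorem toChart_X (j i : Fin (n + 1)) :
    toChart (k := k) j (MvPolynomial.X i) = ProjCoh.ratioSec 𝒮 (X1 j) (X1 i) := by
  rw [toChart, RingHom.comp_apply, show (MvPolynomial.X i : MvPolynomial (Fin (n + 1)) k) = (X1 (k := k) i).1 from rfl,
    ProjUPLib.dehom_mem (X1 (k := k) j) _ (X1 (k := k) i).2]
  exact ProjCoh.awayToSection_ratio 𝒮 (X1 j) (X1 i)

theorem toChart_C (j : Fin (n + 1)) (a : k) :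
    toChart (k := k) j (MvPolynomial.C a) =
      (CohB1.ProjSpace n k).presheaf.map (homOfLE (le_top (a := D (k := k) j))).op
        (ProjUP.toGlobal (CohB1.ProjSpace.toSpec n k) a) := by
  rw [toChart, RingHom.comp_apply, show MvPolynomial.C a = algebraMap k (MvPolynomial (Fin (n + 1)) k) a from rfl,
    ProjUPLib.dehom_algebraMap]
  exact (ProjCoh.φV_projφ 𝒮 (X1 (k := k) (n := n) j).2 one_pos a).symm

/-- The chart ring in the stalk. -/
def toStalk (j : Fin (n + 1)) (y : CohB1.ProjSpace n k) (hy : y ∈ D (k := k) j) :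
    MvPolynomial (Fin (n + 1)) k →+* (CohB1.ProjSpace n k).presheaf.stalk y :=
  ((CohB1.ProjSpace n k).presheaf.germ (D (k := k) j) y hy).hom.comp (toChart (k := k) j)

theorem toStalk_C (j : Fin (n + 1)) (y : CohB1.ProjSpace n k) (hy : y ∈ D j) (a : k) :
    toStalk j y hy (MvPolynomial.C a) = cst y a := by
  rw [toStalk, RingHom.comp_apply, toChart_C]
  exact TopCat.Presheaf.germ_res_apply _ _ _ _ _

theorem toStalk_X (j i : Fin (n + 1)) (y : CohB1.ProjSpace n k) (hy : y ∈ D j) :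
    toStalk j y hy (MvPolynomial.X i) = ρ i y hy := by
  rw [toStalk, RingHom.comp_apply, toChart_X]
  rfl

/-- Evaluation at the coordinates. -/
theorem toStalk_sub_eval_mem {j : Fin (n + 1)} {y : CohB1.ProjSpace n k} (hy : y ∈ D j)
    (a : Fin (n + 1) → k) (x : MvPolynomial (Fin (n + 1)) k) :
    toStalk j y hy x - cst y (MvPolynomial.eval a x) ∈
      Ideal.span (Set.range fun i => ρ i y hy - cst y (a i)) := by
  induction x using MvPolynomial.induction_on with
  | C c => rw [toStalk_C, MvPolynomial.eval_C, sub_self]; exact zero_mem _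
  | add p q hp hq =>
    rw [map_add, map_add, map_add, add_sub_add_comm]
    exact add_mem hp hq
  | mul_X p i hp =>
    rw [map_mul, map_mul, map_mul, MvPolynomial.eval_X, toStalk_X]
    have e : toStalk j y hy p * ρ i y hy - cst y (MvPolynomial.eval a p) * cst y (a i) =
        toStalk j y hy p * (ρ i y hy - cst y (a i)) +
          cst y (a i) * (toStalk j y hy p - cst y (MvPolynomial.eval a p)) := by ring
    rw [e]
    exact add_mem (Ideal.mul_mem_left _ _ (Ideal.subset_span ⟨i, rfl⟩)) (Ideal.mul_mem_left _ _ hp)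

theorem span_ρ_le {j : Fin (n + 1)} {y : CohB1.ProjSpace n k} (hy : y ∈ D j)
    (a : Fin (n + 1) → k) (ha : ∀ i, ρ i y hy - cst y (a i) ∈ IsLocalRing.maximalIdeal _) :
    Ideal.span (Set.range fun i => ρ i y hy - cst y (a i)) ≤ IsLocalRing.maximalIdeal _ :=
  Ideal.span_le.2 (by rintro _ ⟨i, rfl⟩; exact ha i)

theorem eval_eq_zero_iff {j : Fin (n + 1)} {y : CohB1.ProjSpace n k} (hy : y ∈ D j)
    (a : Fin (n + 1) → k) (ha : ∀ i, ρ i y hy - cst y (a i) ∈ IsLocalRing.maximalIdeal _)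
    (x : MvPolynomial (Fin (n + 1)) k) :
    toStalk j y hy x ∈ IsLocalRing.maximalIdeal _ ↔ MvPolynomial.eval a x = 0 := by
  have h := span_ρ_le hy a ha (toStalk_sub_eval_mem hy a x)
  refine ⟨fun hx => cst_mem_maximalIdeal (y := y) ?_, fun hx => by rwa [hx, map_zero, sub_zero] at h⟩
  have := sub_mem hx h
  rwa [sub_sub_cancel] at this

theorem toStalk_surj_aux (j : Fin (n + 1)) (y : CohB1.ProjSpace n k) (hy : y ∈ D j)
    (z : Γ(CohB1.ProjSpace n k, D j)) :
    ∃ x, toStalk j y hy x = (CohB1.ProjSpace n k).presheaf.germ (D j) y hy z := by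
  obtain ⟨x, rfl⟩ := toChart_surjective j z
  exact ⟨x, rfl⟩

theorem isAffineOpen_D (j : Fin (n + 1)) : IsAffineOpen (D (k := k) (n := n) j) :=
  Proj.isAffineOpen_basicOpen 𝒮 (X1 (k := k) j).1 (X1 (k := k) j).2 one_pos

/-- The maximal ideal is generated by the shifted coordinate ratios. -/
theorem maximalIdeal_eq_span {j : Fin (n + 1)} {y : CohB1.ProjSpace n k} (hy : y ∈ D j)
    (a : Fin (n + 1) → k) (ha : ∀ i, ρ i y hy - cst y (a i) ∈ IsLocalRing.maximalIdeal _) :
    IsLocalRing.maximalIdeal _ = Ideal.span (Set.range fun i => ρ i y hy - cst y (a i)) := by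
  refine le_antisymm (fun w hw => ?_) (span_ρ_le hy a ha)
  letI := TopCat.Presheaf.algebra_section_stalk (CohB1.ProjSpace n k).presheaf ⟨y, hy⟩
  haveI := (isAffineOpen_D (k := k) (n := n) j).isLocalization_stalk ⟨y, hy⟩
  obtain ⟨⟨z, s⟩, hzs⟩ := IsLocalization.surj
    ((isAffineOpen_D (k := k) (n := n) j).primeIdealOf ⟨y, hy⟩).asIdeal.primeCompl w
  obtain ⟨u, hu⟩ := IsLocalization.map_units ((CohB1.ProjSpace n k).presheaf.stalk y) s
  obtain ⟨x, hx⟩ := toStalk_surj_aux j y hy z
  have hzs' : w * (u : (CohB1.ProjSpace n k).presheaf.stalk y) = toStalk j y hy x := by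
    rw [hu, hx]; exact hzs
  have h0 := (eval_eq_zero_iff hy a ha x).1 (hzs' ▸ Ideal.mul_mem_right _ _ hw)
  have h := toStalk_sub_eval_mem hy a x
  rw [h0, map_zero, sub_zero, ← hzs'] at h
  have h2 := Ideal.mul_mem_right (↑u⁻¹ : (CohB1.ProjSpace n k).presheaf.stalk y) _ h
  rwa [Units.mul_inv_cancel_right] at h2

/-- Points with the same coordinates are equal. -/
theorem eq_of_coord_eq {j : Fin (n + 1)} {y y' : CohB1.ProjSpace n k} (hy : y ∈ D j) (hy' : y' ∈ D j)
    (a : Fin (n + 1) → k) (ha : ∀ i, ρ i y hy - cst y (a i) ∈ IsLocalRing.maximalIdeal _)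
    (ha' : ∀ i, ρ i y' hy' - cst y' (a i) ∈ IsLocalRing.maximalIdeal _) : y = y' := by
  have hD := isAffineOpen_D (k := k) (n := n) j
  suffices h : hD.primeIdealOf ⟨y, hy⟩ = hD.primeIdealOf ⟨y', hy'⟩ by
    have := congrArg hD.fromSpec h
    rwa [hD.fromSpec_primeIdealOf, hD.fromSpec_primeIdealOf] at this
  refine PrimeSpectrum.ext ?_
  ext z
  have key : ∀ (q : CohB1.ProjSpace n k) (hq : q ∈ D j), z ∈ (hD.primeIdealOf ⟨q, hq⟩).asIdeal ↔
      (CohB1.ProjSpace n k).presheaf.germ (D j) q hq z ∈ IsLocalRing.maximalIdeal _ := fun q hq => by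
    letI := TopCat.Presheaf.algebra_section_stalk (CohB1.ProjSpace n k).presheaf ⟨q, hq⟩
    haveI := hD.isLocalization_stalk ⟨q, hq⟩
    exact (IsLocalization.AtPrime.to_map_mem_maximal_iff _ _ z).symm
  obtain ⟨w, hw⟩ : ∃ x, ∀ (q : CohB1.ProjSpace n k) (hq : q ∈ D j),
      toStalk j q hq x = (CohB1.ProjSpace n k).presheaf.germ (D j) q hq z := by
    obtain ⟨x, rfl⟩ := toChart_surjective j z
    exact ⟨x, fun q hq => rfl⟩
  rw [key y hy, key y' hy', ← hw y hy, ← hw y' hy', eval_eq_zero_iff hy a ha, eval_eq_zero_iff hy' a ha']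

/-- Coordinates of closed points. -/
theorem exists_coord [IsAlgClosed k] {j : Fin (n + 1)} {y : CohB1.ProjSpace n k} (hy : y ∈ D j)
    (hc : IsClosed ({y} : Set (CohB1.ProjSpace n k))) :
    ∃ a : Fin (n + 1) → k, a j = 1 ∧ ∀ i, ρ i y hy - cst y (a i) ∈ IsLocalRing.maximalIdeal _ := by
  haveI : IsProper (CohB1.ProjSpace n k ↘ Spec (CommRingCat.of k)) :=
    inferInstanceAs (IsProper (CohB1.ProjSpace.toSpec n k))
  have hs := ShStabLib.residue_toGlobal_surjective k (X := CohB1.ProjSpace n k) y hc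
  choose a ha using fun i => hs (IsLocalRing.residue _ (ρ i y hy))
  have hmem : ∀ i, ρ i y hy - cst y (a i) ∈ IsLocalRing.maximalIdeal _ := fun i =>
    (IsLocalRing.residue_eq_zero_iff _).1 (by
      rw [map_sub, sub_eq_zero, ← ha i]
      rfl)
  refine ⟨a, ?_, hmem⟩
  have h := hmem j
  rw [ρ_self] at h
  have : cst y (1 - a j) ∈ IsLocalRing.maximalIdeal _ := by rwa [map_sub, map_one]
  exact (sub_eq_zero.1 (cst_mem_maximalIdeal this)).symm

end Groth.Agent.ClImmLib
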