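import Groth.Agent.ClImmLib.Chart
import Groth.Agent.S10867

/-!
Closed immersions into projective space: separation of points and tangent vectors.
-/

set_option autoImplicit false
set_option backward.isDefEq.respectTransparency false
set_option linter.style.haveILetI false
universe u
open CategoryTheory CategoryTheory.Limits AlgebraicGeometry TopologicalSpace HomogeneousLocalization
open Groth.Agent.PullbackMod Groth.Agent.DCohLib Groth.Agent.ParaFLib Groth.Agent.AmpleLib

noncomputable section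

namespace Groth.Agent.ClImmLib

variable {k : Type u} [Field k] {n : ℕ} {X : Scheme.{u}} (pX : X ⟶ Spec (CommRingCat.of k))
  (f : X ⟶ CohB1.ProjSpace n k)

local notation "𝒮" => CohB1.polyGrading n k

/-- The pulled back `O(1)`. -/
abbrev LF : X.Modules := (Scheme.Modules.pullback f).obj (Twist.twistProjSpace n k 1)

/-- A linear combination of the pulled back coordinates. -/
abbrev comb (c : Fin (n + 1) → k) : Γ(LF f, ⊤) :=
  ∑ i, ProjUP.toGlobal pX (c i) • ProjUP.pullSec f (Twist.twistProjSpace n k 1) (ProjUP.coord n k i)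

/-- The sections vanishing at a point. -/
abbrev vanish (P : X) : Submodule (X.presheaf.stalk P) ((LF f).presheaf.stalk P) :=
  IsLocalRing.maximalIdeal (X.presheaf.stalk P) • ⊤

theorem hadj :
    Algebra.adjoin k (Set.range fun i : ULift.{u} (Fin (n + 1)) => (MvPolynomial.X i.down : MvPolynomial _ k)) = ⊤ := by
  rw [show (Set.range fun i : ULift.{u} (Fin (n + 1)) => (MvPolynomial.X i.down : MvPolynomial _ k)) =
    Set.range (MvPolynomial.X (R := k)) from
      Set.ext fun x => ⟨fun ⟨i, h⟩ => ⟨i.down, h⟩, fun ⟨i, h⟩ => ⟨⟨i⟩, h⟩⟩]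
  exact MvPolynomial.adjoin_range_X

/-- The generator of `LF f` at a point over a chart. -/
def gen (j : Fin (n + 1)) (P : X) (hP : f P ∈ D (k := k) j) : (LF f).presheaf.stalk P :=
  (LF f).presheaf.germ (f ⁻¹ᵁ D (k := k) j) P hP (resT (ProjUPLib.pForm f (X1 j)) (f ⁻¹ᵁ D (k := k) j))

theorem bijective_gen (j : Fin (n + 1)) (P : X) (hP : f P ∈ D (k := k) j) :
    Function.Bijective fun r : X.presheaf.stalk P => r • gen f j P hP :=
  (ProjUPLib.gen_pForm (ι := fun i : ULift.{u} (Fin (n + 1)) => (MvPolynomial.X i.down : MvPolynomial _ k))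
    (fun i => MvPolynomial.isHomogeneous_X k i.down) f hadj (X1 j) le_rfl).bijective_germ P hP

theorem germ_pullSec (j i : Fin (n + 1)) (P : X) (hP : f P ∈ D (k := k) j) :
    (LF f).presheaf.germ ⊤ P trivial (ProjUP.pullSec f (Twist.twistProjSpace n k 1) (ProjUP.coord n k i)) =
      f.stalkMap P (ρ i (f P) hP) • gen f j P hP := by
  have h := ProjUPLib.appLE_ratio_smul f (X1 (k := k) j) (X1 i) (le_refl (f ⁻¹ᵁ D (k := k) j))
  have h2 := congrArg ((LF f).presheaf.germ (f ⁻¹ᵁ D (k := k) j) P hP) h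
  rw [germ_smul'] at h2
  have hres : (LF f).presheaf.germ (f ⁻¹ᵁ D (k := k) j) P hP
      (resT (ProjUPLib.pForm f (X1 (k := k) i)) (f ⁻¹ᵁ D (k := k) j)) =
      (LF f).presheaf.germ ⊤ P trivial (ProjUPLib.pForm f (X1 (k := k) i)) :=
    TopCat.Presheaf.germ_res_apply (LF f).presheaf (homOfLE (le_top (a := f ⁻¹ᵁ D (k := k) j))) P hP _
  refine Eq.trans (hres.symm.trans h2.symm) ?_
  show X.presheaf.germ _ P hP _ • gen f j P hP = _
  congr 1
  rw [ρ, Scheme.Hom.germ_stalkMap_apply, Scheme.Hom.app_eq_appLE]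
  rfl

variable {pX f}

theorem germ_comb (hf : f ≫ CohB1.ProjSpace.toSpec n k = pX) (c : Fin (n + 1) → k) (j : Fin (n + 1)) (P : X)
    (hP : f P ∈ D (k := k) j) :
    (LF f).presheaf.germ ⊤ P trivial (comb pX f c) =
      f.stalkMap P (∑ i, cst (f P) (c i) * ρ i (f P) hP) • gen f j P hP := by
  subst hf
  rw [comb, map_sum, map_sum, Finset.sum_smul]
  refine Finset.sum_congr rfl fun i _ => ?_
  rw [germ_smul', germ_pullSec f j i P hP, map_mul, mul_smul]
  congr 1
  rw [cst, RingHom.comp_apply, Scheme.Hom.germ_stalkMap_apply]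
  rfl

theorem mem_vanish_iff (hf : f ≫ CohB1.ProjSpace.toSpec n k = pX) (c : Fin (n + 1) → k) (j : Fin (n + 1)) (P : X)
    (hP : f P ∈ D (k := k) j) :
    (LF f).presheaf.germ ⊤ P trivial (comb pX f c) ∈ vanish f P ↔
      ∑ i, cst (f P) (c i) * ρ i (f P) hP ∈ IsLocalRing.maximalIdeal _ := by
  have hb := bijective_gen f j P hP
  have htop : (⊤ : Submodule (X.presheaf.stalk P) ((LF f).presheaf.stalk P)) =
      Submodule.span (X.presheaf.stalk P) {gen f j P hP} :=
    (eq_top_iff.2 fun z _ => Submodule.mem_span_singleton.2 (hb.2 z)).symm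
  rw [germ_comb hf c j P hP, vanish, htop, Submodule.mem_smul_span_singleton]
  refine ⟨fun ⟨r, hr, h⟩ => ?_, fun h => ⟨_, map_nonunit (f.stalkMap P).hom _ h, rfl⟩⟩
  rw [hb.1 h] at hr
  exact fun hu => hr (hu.map (f.stalkMap P).hom)

theorem sum_mem_iff {j : Fin (n + 1)} {y : CohB1.ProjSpace n k} (hy : y ∈ D j)
    (a : Fin (n + 1) → k) (ha : ∀ i, ρ i y hy - cst y (a i) ∈ IsLocalRing.maximalIdeal _)
    (c : Fin (n + 1) → k) :
    ∑ i, cst y (c i) * ρ i y hy ∈ IsLocalRing.maximalIdeal _ ↔ ∑ i, c i * a i = 0 := by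
  have h := eval_eq_zero_iff hy a ha (∑ i, MvPolynomial.C (c i) * MvPolynomial.X i)
  simp only [map_sum, map_mul, toStalk_C, toStalk_X, MvPolynomial.eval_C, MvPolynomial.eval_X] at h
  exact h

/-- Distinct closed points of projective space are separated by a hyperplane. -/
theorem exists_separate [IsAlgClosed k] {j j' : Fin (n + 1)} {y y' : CohB1.ProjSpace n k}
    (hy : y ∈ D j) (hy' : y' ∈ D j') (hc : IsClosed ({y} : Set (CohB1.ProjSpace n k)))
    (hc' : IsClosed ({y'} : Set (CohB1.ProjSpace n k))) (hne : y ≠ y') :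
    ∃ c : Fin (n + 1) → k, ∑ i, cst y (c i) * ρ i y hy ∈ IsLocalRing.maximalIdeal _ ∧
      ∑ i, cst y' (c i) * ρ i y' hy' ∉ IsLocalRing.maximalIdeal _ := by
  classical
  obtain ⟨a, haj, ha⟩ := exists_coord hy hc
  obtain ⟨a', ha'j, ha'⟩ := exists_coord hy' hc'
  by_contra hall
  push Not at hall
  have hlin : ∀ c : Fin (n + 1) → k, ∑ i, c i * a i = 0 → ∑ i, c i * a' i = 0 := fun c h =>
    (sum_mem_iff hy' a' ha' c).1 (hall c ((sum_mem_iff hy a ha c).2 h))
  have key : ∀ i, a' i = a i * a' j := fun i => by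
    have h := hlin (Pi.single i 1 - Pi.single j (a i)) (by
      simp [sub_mul, Finset.sum_sub_distrib, Pi.single_apply, haj])
    simp [sub_mul, Finset.sum_sub_distrib, Pi.single_apply] at h
    linear_combination h
  have hj0 : a' j ≠ 0 := fun h => by simpa [key j', h] using ha'j.symm
  have hyD : y' ∈ D (k := k) j := by
    by_contra hn
    have : ρ j y' hy' ∈ IsLocalRing.maximalIdeal _ := by
      intro hu
      refine hn ?_
      have hmem : y' ∈ (CohB1.ProjSpace n k).basicOpen (ProjCoh.ratioSec 𝒮 (X1 (k := k) j') (X1 j)) :=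
        ((CohB1.ProjSpace n k).mem_basicOpen _ y' hy').2 hu
      rw [show (CohB1.ProjSpace n k).basicOpen (ProjCoh.ratioSec 𝒮 (X1 (k := k) j') (X1 j)) =
        D (k := k) j' ⊓ D j from ProjCoh.basicOpen_ratioSec _ _] at hmem
      exact hmem.2
    have h2 := sub_mem this (ha' j)
    rw [sub_sub_cancel] at h2
    exact hj0 (cst_mem_maximalIdeal h2)
  refine hne (eq_of_coord_eq hy hyD a ha fun i => ?_)
  have hmul : ρ j y' hy' * ρ i y' hyD = ρ i y' hy' := by
    have h := congrArg ((CohB1.ProjSpace n k).presheaf.germ (D (k := k) j' ⊓ D (k := k) j) y' ⟨hy', hyD⟩)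
      (ProjUPLib.ratio_mul (X1 (k := k) j') (X1 (k := k) j) (X1 (k := k) i)
        (inf_le_left : D (k := k) j' ⊓ D (k := k) j ≤ D j') inf_le_right)
    rw [map_mul] at h
    have hg : ∀ (l : Fin (n + 1)) (hl : y' ∈ D (k := k) l) (hle : D (k := k) j' ⊓ D (k := k) j ≤ D l)
        (t : Γ(CohB1.ProjSpace n k, D (k := k) l)),
        (CohB1.ProjSpace n k).presheaf.germ (D (k := k) j' ⊓ D (k := k) j) y' ⟨hy', hyD⟩
          ((CohB1.ProjSpace n k).presheaf.map (homOfLE hle).op t) =
        (CohB1.ProjSpace n k).presheaf.germ (D (k := k) l) y' hl t :=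
      fun l hl hle t => TopCat.Presheaf.germ_res_apply _ _ _ _ t
    exact ((congrArg₂ (· * ·) (hg j' hy' inf_le_left _) (hg j hyD inf_le_right _)).symm.trans h).trans
      (hg j' hy' inf_le_left _)
  have e : cst y' (a' j) * (ρ i y' hyD - cst y' (a i)) =
      (ρ i y' hy' - cst y' (a' i)) - (ρ j y' hy' - cst y' (a' j)) * ρ i y' hyD := by
    rw [sub_mul, hmul, key i, map_mul]; ring
  refine (Ideal.unit_mul_mem_iff_mem _ ((isUnit_iff_ne_zero.2 hj0).map (cst y'))).1 (e ▸ ?_)
  exact sub_mem (ha' i) (Ideal.mul_mem_right _ _ (ha' j))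

variable (pX f)

/-- The linear combinations separate points (asymmetric form). -/
def SepPts : Prop :=
  ∀ P Q : X, IsClosed ({P} : Set X) → IsClosed ({Q} : Set X) → P ≠ Q → ∃ c : Fin (n + 1) → k,
    (LF f).presheaf.germ ⊤ P trivial (comb pX f c) ∈ vanish f P ∧
      (LF f).presheaf.germ ⊤ Q trivial (comb pX f c) ∉ vanish f Q

/-- The linear combinations separate points (symmetric form). -/
def SepPts' : Prop :=
  ∀ P Q : X, IsClosed ({P} : Set X) → IsClosed ({Q} : Set X) → P ≠ Q → ∃ c : Fin (n + 1) → k,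
    ((LF f).presheaf.germ ⊤ P trivial (comb pX f c) ∈ vanish f P ∧
      (LF f).presheaf.germ ⊤ Q trivial (comb pX f c) ∉ vanish f Q) ∨
    ((LF f).presheaf.germ ⊤ Q trivial (comb pX f c) ∈ vanish f Q ∧
      (LF f).presheaf.germ ⊤ P trivial (comb pX f c) ∉ vanish f P)

/-- The linear combinations separate tangent vectors. -/
def SepTan : Prop :=
  ∀ P : X, IsClosed ({P} : Set X) → vanish f P ≤
    Submodule.span (X.presheaf.stalk P)
      {v | ∃ c : Fin (n + 1) → k, v = (LF f).presheaf.germ ⊤ P trivial (comb pX f c) ∧ v ∈ vanish f P} ⊔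
      (IsLocalRing.maximalIdeal (X.presheaf.stalk P) ^ 2 •
        (⊤ : Submodule (X.presheaf.stalk P) ((LF f).presheaf.stalk P)))

variable {pX f}

theorem isClosed_map [IsProper pX] (hf : f ≫ CohB1.ProjSpace.toSpec n k = pX) (P : X)
    (hP : IsClosed ({P} : Set X)) : IsClosed ({f P} : Set (CohB1.ProjSpace n k)) := by
  haveI : IsProper (f ≫ CohB1.ProjSpace.toSpec n k) := hf ▸ ‹_›
  haveI : IsProper f := IsProper.of_comp f (CohB1.ProjSpace.toSpec n k)
  have := f.isClosedMap _ hP
  rwa [Set.image_singleton] at this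

theorem sepPts_of_closedImmersion [IsAlgClosed k] [IsProper pX] (hf : f ≫ CohB1.ProjSpace.toSpec n k = pX)
    [IsClosedImmersion f] : SepPts pX f := by
  intro P Q hP hQ hne
  obtain ⟨j, hj⟩ := exists_mem_D (f P)
  obtain ⟨j', hj'⟩ := exists_mem_D (f Q)
  obtain ⟨c, h1, h2⟩ := exists_separate hj hj' (isClosed_map hf P hP) (isClosed_map hf Q hQ)
    fun e => hne (f.isClosedEmbedding.injective e)
  exact ⟨c, (mem_vanish_iff hf c j P hj).2 h1, fun h => h2 ((mem_vanish_iff hf c j' Q hj').1 h)⟩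

theorem sepTan_of_closedImmersion [IsAlgClosed k] [IsProper pX] (hf : f ≫ CohB1.ProjSpace.toSpec n k = pX)
    [IsClosedImmersion f] : SepTan pX f := by
  classical
  intro P hP
  obtain ⟨j, hj⟩ := exists_mem_D (f P)
  obtain ⟨a, haj, ha⟩ := exists_coord hj (isClosed_map hf P hP)
  refine le_trans (Submodule.smul_le.2 fun r hr v _ => ?_) le_sup_left
  obtain ⟨w, rfl⟩ := (bijective_gen f j P hj).2 v
  obtain ⟨r', rfl⟩ := f.stalkMap_surjective P r
  rw [smul_smul, mul_comm, ← smul_smul]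
  refine Submodule.smul_mem _ _ ?_
  have hr' : r' ∈ Ideal.span (Set.range fun i => ρ i (f P) hj - cst (f P) (a i)) := by
    rw [← maximalIdeal_eq_span hj a ha]
    exact fun hu => hr (hu.map (f.stalkMap P).hom)
  clear hr
  induction hr' using Submodule.span_induction with
  | mem x hx =>
    obtain ⟨i, rfl⟩ := hx
    refine Submodule.subset_span ⟨Pi.single i 1 - Pi.single j (a i), ?_⟩
    have e : ∑ l, cst (f P) ((Pi.single i 1 - Pi.single j (a i) : Fin (n + 1) → k) l) * ρ l (f P) hj =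
        ρ i (f P) hj - cst (f P) (a i) := by
      simp [sub_mul, Finset.sum_sub_distrib, Pi.single_apply, ρ_self, apply_ite (cst (f P))]
    refine ⟨?_, ?_⟩
    · rw [germ_comb hf _ j P hj, e]
    · exact Submodule.smul_mem_smul (map_nonunit (f.stalkMap P).hom _ (ha i)) trivial
  | zero => rw [map_zero, zero_smul]; exact zero_mem _
  | add x y _ _ hx hy => rw [map_add, add_smul]; exact add_mem hx hy
  | smul b x _ hx => rw [smul_eq_mul, map_mul, mul_smul]; exact Submodule.smul_mem _ _ hx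

theorem isClosedImmersion_of_sep [IsAlgClosed k] [IsProper pX] (hf : f ≫ CohB1.ProjSpace.toSpec n k = pX)
    (h1 : SepPts' pX f) (h2 : SepTan pX f) : IsClosedImmersion f := by
  haveI : IsProper (f ≫ CohB1.ProjSpace.toSpec n k) := hf ▸ ‹_›
  haveI : IsProper f := IsProper.of_comp f (CohB1.ProjSpace.toSpec n k)
  refine S10867.result k f (CohB1.ProjSpace.toSpec n k) (fun P hP Q hQ hPQ => ?_) fun P hP => ?_
  · by_contra hne
    obtain ⟨j, hj⟩ := exists_mem_D (f P)
    have hj' : f Q ∈ D j := by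
      have : f P = f Q := hPQ
      exact this ▸ hj
    obtain ⟨c, hc⟩ := h1 P Q hP hQ hne
    rw [mem_vanish_iff hf c j P hj, mem_vanish_iff hf c j Q hj'] at hc
    have : ∀ (y y' : CohB1.ProjSpace n k) (hy : y ∈ D j) (hy' : y' ∈ D j), y = y' →
        (∑ i, cst y (c i) * ρ i y hy ∈ IsLocalRing.maximalIdeal _ ↔
          ∑ i, cst y' (c i) * ρ i y' hy' ∈ IsLocalRing.maximalIdeal _) := by
      intro y y' hy hy' h; subst h; rfl
    have h := this (f P) (f Q) hj hj' hPQ
    tauto
  · refine le_antisymm (sup_le (Ideal.map_le_iff_le_comap.2 fun r hr => map_nonunit (f.stalkMap P).hom _ hr)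
      (Ideal.pow_le_self two_ne_zero)) fun r hr => ?_
    obtain ⟨j, hj⟩ := exists_mem_D (f P)
    have hb := bijective_gen f j P hj
    let L : X.presheaf.stalk P →ₗ[X.presheaf.stalk P] (LF f).presheaf.stalk P :=
      LinearMap.toSpanSingleton _ _ (gen f j P hj)
    have hmem := h2 P hP (Submodule.smul_mem_smul hr (Submodule.mem_top (x := gen f j P hj)))
    suffices hle : Submodule.span (X.presheaf.stalk P)
        {v | ∃ c : Fin (n + 1) → k, v = (LF f).presheaf.germ ⊤ P trivial (comb pX f c) ∧ v ∈ vanish f P} ⊔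
        (IsLocalRing.maximalIdeal (X.presheaf.stalk P) ^ 2 •
          (⊤ : Submodule (X.presheaf.stalk P) ((LF f).presheaf.stalk P))) ≤
        Submodule.map L (Ideal.map (f.stalkMap P).hom (IsLocalRing.maximalIdeal _) ⊔
          IsLocalRing.maximalIdeal (X.presheaf.stalk P) ^ 2) by
      obtain ⟨r', hr', he⟩ := hle hmem
      rwa [← hb.1 (show r' • gen f j P hj = r • gen f j P hj from he)]
    refine sup_le (Submodule.span_le.2 ?_) (Submodule.smul_le.2 fun b hb2 v _ => ?_)
    · rintro v ⟨c, rfl, hv⟩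
      refine ⟨f.stalkMap P (∑ i, cst (f P) (c i) * ρ i (f P) hj),
        Submodule.mem_sup_left (Ideal.mem_map_of_mem _ ((mem_vanish_iff hf c j P hj).1 hv)), ?_⟩
      exact (germ_comb hf c j P hj).symm
    · obtain ⟨w, rfl⟩ := hb.2 v
      exact ⟨b * w, Submodule.mem_sup_right (Ideal.mul_mem_right _ _ hb2), (mul_smul b w _)⟩

end Groth.Agent.ClImmLib
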